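import Cfsg.Agent.H58.Rec.Tools
import Cfsg.Agent.H24.M12.Cls
import Cfsg.Agent.H24.M12.Pow
import Cfsg.Agent.H6.M11.Reps
import Cfsg.Agent.S2061
import Cfsg.Agent.H251.Small.U5
import Cfsg.Agent.NotCT.Orders

/-!
# Facts on `M₁₂` and `M₁₁` for the recognition by spectrum (helper893)

`ord_mem` : the element orders of `M₁₂`; `hasFrob_m11`, `hasFrob_m12` : the Frobenius group `3² : 8`;
`twelve` : the extension `M₁₂.2` has an element of order 12.
-/

set_option autoImplicit false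
set_option linter.unusedSectionVars false

namespace Cfsg.Agent.H893.Rec

open Subgroup Cfsg
open Cfsg.Agent.H58.Rec
open Cfsg.Agent.H6.M11 (Sat ev v11 sat_11 orders_11 v11_zero_ne)
open Cfsg.Agent.H932.Mt (Γ sig sig_surjective sig_neg neg)

universe u v

/-! ### the spectrum of `M₁₂` -/

open Cfsg.Agent.H24.M12 in
theorem pw_ok : (eqw (rpt 6 (RW 13)) nw && eqw (rpt 10 (RW 14)) nw) = true := by decide +kernel

open Cfsg.Agent.H24.M12 in
theorem order_dvd (m : Spor.M12) : orderOf m ∣ 1 ∨ orderOf m ∣ 4 ∨ orderOf m ∣ 5 ∨ orderOf m ∣ 6 ∨ orderOf m ∣ 8 ∨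
    orderOf m ∣ 10 ∨ orderOf m ∣ 11 := by
  obtain ⟨g, rfl⟩ := sig_surjective m
  obtain ⟨k, hk⟩ := classes g
  have h1 : orderOf (sig g) = orderOf (sig (rp k)) := by
    rcases hk with hk | hk
    · obtain ⟨c, hc⟩ := isConj_iff.1 hk
      rw [← hc, map_mul, map_mul, map_inv]
      exact (MulEquiv.orderOf_eq (MulAut.conj (sig c)) (sig g)).symm
    · obtain ⟨c, hc⟩ := isConj_iff.1 hk
      have h2 : sig (neg * rp k) = sig (rp k) := by rw [map_mul, sig_neg, one_mul]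
      rw [← h2, ← hc, map_mul, map_mul, map_inv]
      exact (MulEquiv.orderOf_eq (MulAut.conj (sig c)) (sig g)).symm
  have h3 : orderOf (sig (rp k)) ∣ po k.1 := by
    rw [← order_rp k]
    exact orderOf_map_dvd sig _
  have h4 := pw_ok
  rw [Bool.and_eq_true] at h4
  rw [h1]
  have h13 : k.1 = 13 → orderOf (sig (rp k)) ∣ 6 := by
    intro h5
    have h6 := el_eq h4.1
    rw [el_rpt, el_nw] at h6
    rw [orderOf_dvd_iff_pow_eq_one, h5, ← map_pow]
    rw [show rp 13 = Cfsg.Agent.H932.Mt.el (RW 13) from rfl, h6, sig_neg]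
  have h14 : k.1 = 14 → orderOf (sig (rp k)) ∣ 10 := by
    intro h5
    have h6 := el_eq h4.2
    rw [el_rpt, el_nw] at h6
    rw [orderOf_dvd_iff_pow_eq_one, h5, ← map_pow]
    rw [show rp 14 = Cfsg.Agent.H932.Mt.el (RW 14) from rfl, h6, sig_neg]
  have key : ∀ k : Fin 15, (k.1 = 13 ∨ k.1 = 14) ∨ po k.1 ∣ 1 ∨ po k.1 ∣ 4 ∨ po k.1 ∣ 5 ∨ po k.1 ∣ 6 ∨ po k.1 ∣ 8 ∨
      po k.1 ∣ 10 ∨ po k.1 ∣ 11 := by decide
  rcases key k with (h5 | h5) | h5 | h5 | h5 | h5 | h5 | h5 | h5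
  · exact Or.inr (Or.inr (Or.inr (Or.inl (h13 h5))))
  · exact Or.inr (Or.inr (Or.inr (Or.inr (Or.inr (Or.inl (h14 h5))))))
  · exact Or.inl (h3.trans h5)
  · exact Or.inr (Or.inl (h3.trans h5))
  · exact Or.inr (Or.inr (Or.inl (h3.trans h5)))
  · exact Or.inr (Or.inr (Or.inr (Or.inl (h3.trans h5))))
  · exact Or.inr (Or.inr (Or.inr (Or.inr (Or.inl (h3.trans h5)))))
  · exact Or.inr (Or.inr (Or.inr (Or.inr (Or.inr (Or.inl (h3.trans h5))))))
  · exact Or.inr (Or.inr (Or.inr (Or.inr (Or.inr (Or.inr (h3.trans h5))))))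

/-- the element orders of `M₁₂` -/
theorem ord_mem {M : Type v} [Group M] (hM : Spor.IsoM12 M) {n : ℕ} (h : HasOrd M n) :
    n ∈ [1, 2, 3, 4, 5, 6, 8, 10, 11] := by
  obtain ⟨e⟩ := hM
  obtain ⟨g, rfl⟩ := h
  rw [← MulEquiv.orderOf_eq e]
  have key : ∀ n : ℕ, n ∣ 1 ∨ n ∣ 4 ∨ n ∣ 5 ∨ n ∣ 6 ∨ n ∣ 8 ∨ n ∣ 10 ∨ n ∣ 11 →
      n ∈ [1, 2, 3, 4, 5, 6, 8, 10, 11] := by
    intro n hn
    have h12 : n < 12 := by
      rcases hn with h | h | h | h | h | h | h <;> have := Nat.le_of_dvd (by norm_num) h <;> omega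
    revert hn
    interval_cases n <;> decide
  exact key _ (order_dvd _)

/-! ### `3² : 8` -/

section Sat

variable {X : Type*} [Group X] {w : ℕ → X}

theorem sat_rel (h : Sat w) {a b : List ℕ} (hr : (a, b) ∈ Cfsg.Agent.H6.M11.baseL) : ev w a = ev w b := h.base hr

theorem hasFrob_of_sat (h : Sat w) (h0 : w 0 ≠ 1) (h2 : orderOf (w 2) = 8) : HasFrob X 3 8 := by
  have a3 : w 0 ^ 3 = 1 := by
    have := sat_rel h (a := [0,0,0]) (b := []) (by decide)
    simpa [ev, pow_succ, mul_assoc] using this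
  have b3 : w 1 ^ 3 = 1 := by
    have := sat_rel h (a := [1,1,1]) (b := []) (by decide)
    simpa [ev, pow_succ, mul_assoc] using this
  have ab : w 0 * w 1 = w 1 * w 0 := by
    have := sat_rel h (a := [0,1]) (b := [1,0]) (by decide)
    simpa [ev] using this
  have ya : w 2 * w 0 * (w 2)⁻¹ = w 0 * w 1 := by
    have := sat_rel h (a := [2,0]) (b := [0,1,2]) (by decide)
    rw [mul_inv_eq_iff_eq_mul]
    simpa [ev, mul_assoc] using this
  have yb : w 2 * w 1 * (w 2)⁻¹ = w 0 * w 0 * w 1 := by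
    have := sat_rel h (a := [2,1]) (b := [0,0,1,2]) (by decide)
    rw [mul_inv_eq_iff_eq_mul]
    simpa [ev, mul_assoc] using this
  have y4a : (w 2) ^ 4 * w 0 * ((w 2) ^ 4)⁻¹ = (w 0)⁻¹ := by
    have := sat_rel h (a := [2,2,2,2,0]) (b := [0,0,2,2,2,2]) (by decide)
    have e1 : (w 0)⁻¹ = w 0 * w 0 := by
      rw [inv_eq_iff_mul_eq_one, ← mul_assoc]
      simpa [pow_succ] using a3
    rw [mul_inv_eq_iff_eq_mul, e1]
    simpa [ev, mul_assoc, pow_succ] using this
  have y4b : (w 2) ^ 4 * w 1 * ((w 2) ^ 4)⁻¹ = (w 1)⁻¹ := by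
    have := sat_rel h (a := [2,2,2,2,1]) (b := [1,1,2,2,2,2]) (by decide)
    have e1 : (w 1)⁻¹ = w 1 * w 1 := by
      rw [inv_eq_iff_mul_eq_one, ← mul_assoc]
      simpa [pow_succ] using b3
    rw [mul_inv_eq_iff_eq_mul, e1]
    simpa [ev, mul_assoc, pow_succ] using this
  obtain ⟨T, hT⟩ : ∃ T : Subgroup X, T = closure {w 0, w 1} := ⟨_, rfl⟩
  have h0T : w 0 ∈ T := by rw [hT]; exact subset_closure (by simp)
  have h1T : w 1 ∈ T := by rw [hT]; exact subset_closure (by simp)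
  have hTc : IsMulCommutative T := by
    rw [hT]
    apply isMulCommutative_closure
    rintro a (rfl | rfl) b (rfl | rfl)
    · rfl
    · exact ab
    · exact ab.symm
    · rfl
  have hcomm : ∀ a ∈ T, ∀ b ∈ T, a * b = b * a := fun a ha b hb =>
    congrArg Subtype.val (hTc.is_comm.comm (⟨a, ha⟩ : T) ⟨b, hb⟩)
  have hcube : ∀ a ∈ T, a ^ 3 = 1 := by
    intro a ha
    rw [hT] at ha
    induction ha using closure_induction with
    | mem x hx =>
      rcases hx with rfl | rfl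
      · exact a3
      · exact b3
    | one => exact one_pow 3
    | mul x y hx hy h1 h2 =>
      have hc : Commute x y := hcomm x (hT ▸ hx) y (hT ▸ hy)
      rw [hc.mul_pow, h1, h2, one_mul]
    | inv x hx h1 => rw [inv_pow, h1, inv_one]
  have hinv : ∀ a ∈ T, (w 2) ^ 4 * a * ((w 2) ^ 4)⁻¹ = a⁻¹ := by
    intro a ha
    rw [hT] at ha
    induction ha using closure_induction with
    | mem x hx =>
      rcases hx with rfl | rfl
      · exact y4a
      · exact y4b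
    | one => simp
    | mul x y hx hy h1 h2 =>
      have hc : x * y = y * x := hcomm x (hT ▸ hx) y (hT ▸ hy)
      rw [hc, mul_inv_rev, ← h1, ← h2, ← hc]
      group
    | inv x hx h1 =>
      rw [inv_inv]
      have h2 := congrArg (fun z => z⁻¹) h1
      simp only [mul_inv_rev, inv_inv] at h2
      rw [mul_assoc]
      exact h2
  have hmap : ∀ a ∈ T, w 2 * a * (w 2)⁻¹ ∈ T := by
    intro a ha
    rw [hT] at ha
    induction ha using closure_induction with
    | mem x hx =>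
      rcases hx with rfl | rfl
      · rw [ya]; exact T.mul_mem h0T h1T
      · rw [yb]; exact T.mul_mem (T.mul_mem h0T h0T) h1T
    | one => simp
    | mul x y hx hy h1 h2 =>
      have : w 2 * (x * y) * (w 2)⁻¹ = (w 2 * x * (w 2)⁻¹) * (w 2 * y * (w 2)⁻¹) := by group
      rw [this]
      exact T.mul_mem h1 h2
    | inv x hx h1 =>
      have : w 2 * x⁻¹ * (w 2)⁻¹ = (w 2 * x * (w 2)⁻¹)⁻¹ := by group
      rw [this]
      exact T.inv_mem h1
  have hmapn : ∀ n : ℕ, ∀ a ∈ T, (w 2) ^ n * a * ((w 2) ^ n)⁻¹ ∈ T := by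
    intro n
    induction n with
    | zero => intro a ha; simpa using ha
    | succ n ih =>
      intro a ha
      have h3 := hmap _ (ih a ha)
      have : (w 2) ^ (n + 1) * a * ((w 2) ^ (n + 1))⁻¹ = w 2 * ((w 2) ^ n * a * ((w 2) ^ n)⁻¹) * (w 2)⁻¹ := by
        rw [pow_succ']; group
      rw [this]
      exact h3
  have h8 : (w 2) ^ 8 = 1 := by rw [← h2]; exact pow_orderOf_eq_one _
  refine ⟨T, w 2, ?_, ?_, ?_, h2, ?_⟩
  · rintro ⟨a, ha⟩
    exact ⟨1, Subtype.ext (by simpa using hcube a ha)⟩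
  · intro h3
    rw [h3, mem_bot] at h0T
    exact h0 h0T
  · rw [mem_normalizer_iff]
    intro a
    refine ⟨hmap a, fun h3 => ?_⟩
    have h4 := hmapn 7 _ h3
    have h5 : (w 2) ^ 7 * (w 2 * a * (w 2)⁻¹) * ((w 2) ^ 7)⁻¹ = (w 2) ^ 8 * a * ((w 2) ^ 8)⁻¹ := by group
    rw [h5, h8] at h4
    simpa using h4
  · intro j h0 hj a ha hc
    have h3 : ∃ k, (w 2) ^ 4 = ((w 2) ^ j) ^ k := by
      have key : ∀ k, (j * k) % 8 = 4 → (w 2) ^ 4 = ((w 2) ^ j) ^ k := by
        intro k hk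
        rw [← pow_mul, ← pow_mod_orderOf (w 2) (j * k), h2, hk]
      interval_cases j
      · exact ⟨4, key 4 rfl⟩
      · exact ⟨2, key 2 rfl⟩
      · exact ⟨4, key 4 rfl⟩
      · exact ⟨1, key 1 rfl⟩
      · exact ⟨4, key 4 rfl⟩
      · exact ⟨2, key 2 rfl⟩
      · exact ⟨4, key 4 rfl⟩
    obtain ⟨k, hk⟩ := h3
    have h4 : Commute a ((w 2) ^ 4) := by
      rw [hk]
      exact Commute.pow_right hc k
    have h5 := hinv a ha
    rw [← h4.eq, mul_inv_cancel_right] at h5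
    have h6 : a ^ 2 = 1 := by
      rw [pow_two]
      nth_rw 1 [h5]
      exact inv_mul_cancel a
    have h7 := hcube a ha
    rw [pow_succ, h6, one_mul] at h7
    exact h7

end Sat

theorem hasFrob_M11 : HasFrob Spor.M11 3 8 := by
  refine hasFrob_of_sat sat_11 v11_zero_ne ?_
  have := orders_11.2.1
  simpa [ev] using this

theorem hasFrob_m11 {M : Type v} [Group M] (hM : Spor.IsoM11 M) : HasFrob M 3 8 := by
  obtain ⟨e⟩ := hM
  exact hasFrob_M11.congr e.symm

theorem hasFrob_m12 {M : Type v} [Group M] (hM : Spor.IsoM12 M) : HasFrob M 3 8 := by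
  obtain ⟨e⟩ := hM
  have h1 : Spor.M11 ≤ Spor.M12 := inf_le_left
  exact (hasFrob_M11.of_injective (Subgroup.inclusion h1) (Subgroup.inclusion_injective h1)).congr e.symm

end Cfsg.Agent.H893.Rec
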